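import Groth.Agent.Lib.ExtPowX.Basic
import Groth.Agent.Lib.FittSheaf.Generators
import Groth.Agent.Lib.FrameFib8.Basic
import Groth.Agent.Lib.DegDet.Stalk
import Groth.Agent.Lib.OmegaPn27.Koszul

/-!
# A globally generated bundle with trivial determinant is trivial
-/

set_option autoImplicit false
set_option maxHeartbeats 800000
set_option linter.style.haveILetI false
set_option backward.isDefEq.respectTransparency false

universe u

open CategoryTheory CategoryTheory.Limits AlgebraicGeometry Opposite TopologicalSpace
open GrothLib.InvExt (mres)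
open GrothLib.FinCov (IsFrame)
open GrothLib.ExtPowX (wedge eta)

noncomputable section

namespace GrothLib.GGTriv27

/-- An alternating map in `r` vectors is a multiple of the determinant. -/
theorem alternating_eq_det {R M N : Type*} [CommRing R] [AddCommGroup M] [Module R M] [AddCommGroup N]
    [Module R N] {r : ℕ} (b : Module.Basis (Fin r) R M) (f : M [⋀^Fin r]→ₗ[R] N) (v : Fin r → M) :
    f v = b.det v • f b := by
  have h : f = (LinearMap.toSpanSingleton R N (f b)).compAlternatingMap b.det := by
    refine Module.Basis.ext_alternating b fun i hi => ?_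
    let σ : Equiv.Perm (Fin r) := Equiv.ofBijective i (Finite.injective_iff_bijective.1 hi)
    show f (b ∘ σ) = LinearMap.toSpanSingleton R N (f b) (b.det (b ∘ σ))
    rw [AlternatingMap.map_perm, AlternatingMap.map_perm, b.det_self, LinearMap.toSpanSingleton_apply,
      smul_assoc, one_smul]
  conv_lhs => rw [h]
  rfl

theorem ιMulti_basis_smul_ne_zero {R M : Type*} [CommRing R] [AddCommGroup M] [Module R M] {r : ℕ}
    (b : Module.Basis (Fin r) R M) {c : R} (h : c • exteriorPower.ιMulti R r (b : Fin r → M) = 0) : c = 0 := by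
  have h1 := congrArg (exteriorPower.alternatingMapLinearEquiv b.det) h
  rw [map_smul, map_zero, exteriorPower.alternatingMapLinearEquiv_apply_ιMulti, b.det_self, smul_eq_mul,
    mul_one] at h1
  exact h1

/-- Rows spanning `R^r` over a local ring contain a minor with unit determinant. -/
theorem exists_minor_isUnit {R : Type*} [CommRing R] [IsLocalRing R] {N r : ℕ} (C : Fin N → Fin r → R)
    (h : Submodule.span R (Set.range C) = ⊤) :
    ∃ f : Fin r → Fin N, IsUnit (Matrix.of fun a j => C (f a) j).det := by
  classical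
  let π := IsLocalRing.residue R
  let Cb : Fin N → Fin r → IsLocalRing.ResidueField R := fun i j => π (C i j)
  have hspan : ⊤ ≤ Submodule.span (IsLocalRing.ResidueField R) (Set.range Cb) := by
    rintro v -
    choose w hw using fun j => IsLocalRing.residue_surjective (v j)
    obtain ⟨c, hc⟩ := (Submodule.mem_span_range_iff_exists_fun R).1 (h.ge (Submodule.mem_top (x := w)))
    refine (Submodule.mem_span_range_iff_exists_fun _).2 ⟨fun i => π (c i), funext fun j => ?_⟩
    have := congrArg π (congrFun hc j)
    simp only [Finset.sum_apply, Pi.smul_apply, smul_eq_mul, map_sum, map_mul] at this ⊢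
    exact this.trans (hw j)
  obtain ⟨b, hb, hbs, hli⟩ := exists_linearIndependent (IsLocalRing.ResidueField R) (Set.range Cb)
  let B : Module.Basis b (IsLocalRing.ResidueField R) (Fin r → IsLocalRing.ResidueField R) :=
    Module.Basis.mk hli (by rw [Subtype.range_coe_subtype, Set.setOf_mem_eq, hbs]; exact hspan)
  haveI : Fintype b := (Set.finite_range Cb).subset hb |>.fintype
  have hcard : Fintype.card b = r := by
    rw [← Module.finrank_eq_card_basis B, Module.finrank_pi, Fintype.card_fin]
  let eq' : Fin r ≃ b := (Fintype.equivFinOfCardEq hcard).symm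
  choose f hf using fun a => hb (eq' a).2
  refine ⟨f, ?_⟩
  have hli' : LinearIndependent (IsLocalRing.ResidueField R)
      ((Matrix.of fun a j => C (f a) j).map π).row := by
    have hrow : ((Matrix.of fun a j => C (f a) j).map π).row = ((↑) : b → _) ∘ eq' := funext fun a => hf a
    rw [hrow]
    exact hli.comp _ eq'.injective
  rw [Matrix.linearIndependent_rows_iff_isUnit, Matrix.isUnit_iff_isUnit_det,
    ← RingHom.mapMatrix_apply, ← RingHom.map_det π] at hli'
  exact (isUnit_map_iff π _).1 hli'

variable {X : Scheme.{u}}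

theorem isUnit_of_mul_basis {R : Type*} [CommRing R] {a b t : R} (ht : IsUnit t) (h : t = a * b) : IsUnit a :=
  isUnit_of_mul_isUnit_left (h ▸ ht)

/-- A globally generated bundle with trivial determinant is trivial, when the non-zero global functions
are invertible. -/
theorem nonempty_iso_free [Nonempty X] (hG : ∀ t : Γ(X, ⊤), t ≠ 0 → IsUnit t) {r N : ℕ} {E : X.Modules}
    (hE : FlatMod.IsFinLocFreeOfRank r E) (φ : FlatMod.freeMod X N ⟶ E) [Epi φ]
    (a : wedge E r ≅ Coh.structureModule X) : Nonempty (E ≅ FlatMod.freeMod X r) := by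
  classical
  have hgen := (FittSheaf.epi_iff_span φ).1 inferInstance
  let s : Fin N → Γ(E, ⊤) := FittSheaf.basisImage φ
  obtain ⟨x⟩ := (inferInstance : Nonempty X)
  obtain ⟨V, e, hxV, he⟩ := FinCov.exists_frame_nhd_of_rank hE x
  -- coordinates on a framed open
  have key : ∀ (V : X.Opens) (e : Fin r → Γ(E, V)) (he : IsFrame E V e) (f : Fin r → Fin N),
      ∃ C : Matrix (Fin r) (Fin r) Γ(X, V), (∀ i, mres E le_top (s (f i)) = ∑ j, C i j • mres E le_rfl (e j)) ∧
        mres (wedge E r) le_top (eta E r ⊤ (exteriorPower.ιMulti _ r (s ∘ f))) =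
          C.det • eta E r V (exteriorPower.ιMulti _ r (he.basis V le_rfl : Fin r → Γ(E, V))) := by
    intro V e he f
    let b := he.basis V le_rfl
    let v : Fin r → Γ(E, V) := fun i => mres E le_top (s (f i))
    refine ⟨(b.toMatrix v).transpose, fun i => ?_, ?_⟩
    · conv_lhs => rw [← b.sum_repr (mres E le_top (s (f i)))]
      refine Finset.sum_congr rfl fun j _ => ?_
      rw [IsFrame.basis_apply]
      rfl
    · rw [ExtPowX.mres_eta, ExtPowX.wRes_ιMulti, Matrix.det_transpose, ← b.det_apply, ← map_smul]
      exact congrArg _ (alternating_eq_det b (exteriorPower.ιMulti _ r) v)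
  -- a minor which is a unit at `x`
  have hst := Ref1.stalk_of_isFrame he x hxV
  choose C hC using fun i : Fin N => hst.2 (E.presheaf.germ ⊤ x trivial (s i))
  have hspan : Submodule.span (X.presheaf.stalk x) (Set.range C) = ⊤ := by
    refine Submodule.map_injective_of_injective (f := Fintype.linearCombination (X.presheaf.stalk x)
      (fun j => E.presheaf.germ V x hxV (e j))) hst.1 ?_
    rw [Submodule.map_span, ← Set.range_comp, Submodule.map_top]
    refine Eq.trans ?_ (LinearMap.range_eq_top.2 hst.2).symm
    refine Eq.trans (congrArg _ ?_) (hgen x)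
    exact congrArg Set.range (funext hC)
  obtain ⟨f, hf⟩ := exists_minor_isUnit C hspan
  let w : Γ(wedge E r, ⊤) := eta E r ⊤ (exteriorPower.ιMulti _ r (s ∘ f))
  let t : Γ(X, ⊤) := a.hom.app ⊤ w
  have ht : IsUnit t := by
    refine hG t fun h0 => ?_
    obtain ⟨C', hC', hw⟩ := key V e he f
    have hw0 : w = 0 := by
      have h1 : a.inv.app ⊤ (a.hom.app ⊤ w) = w :=
        ConcreteCategory.congr_hom (congrArg (fun g => g.app ⊤) a.hom_inv_id) w
      rw [← h1, show a.hom.app ⊤ w = 0 from h0, map_zero]
    change mres (wedge E r) le_top w = _ at hw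
    rw [hw0, show mres (wedge E r) (le_top : V ≤ ⊤) (0 : Γ(wedge E r, ⊤)) = 0 from map_zero _, ← map_smul] at hw
    have hdet : C'.det = 0 := ιMulti_basis_smul_ne_zero (he.basis V le_rfl)
      ((ExtPowX.bijective_eta_of_frame (k := r) he).1 (hw.symm.trans (map_zero _).symm))
    have hCeq : (Matrix.of fun i j => C (f i) j) = C'.map (X.presheaf.germ V x hxV).hom := by
      refine Matrix.ext fun i j => congrFun (hst.1 (a₁ := C (f i)) (a₂ := fun j => X.presheaf.germ V x hxV (C' i j)) ?_) j
      rw [hC, ← TopCat.Presheaf.germ_res_apply E.presheaf (homOfLE (le_top : V ≤ ⊤)) x hxV (s (f i)),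
        show E.presheaf.map (homOfLE (le_top : V ≤ ⊤)).op (s (f i)) = _ from hC' i, map_sum, Ref1.stalkComb,
        Fintype.linearCombination_apply]
      refine Finset.sum_congr rfl fun j _ => ?_
      rw [Mero.germ_smul, InvExt.mres_self]
    rw [hCeq, ← RingHom.mapMatrix_apply, ← RingHom.map_det, hdet, map_zero] at hf
    exact not_isUnit_zero hf
  -- hence a global frame
  have hfr : ∀ y : X, Function.Bijective (Ref1.stalkComb (s ∘ f) y (show y ∈ (⊤ : X.Opens) from trivial)) := by
    intro y
    obtain ⟨V', e', hyV', he'⟩ := FinCov.exists_frame_nhd_of_rank hE y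
    obtain ⟨C', hC', hw⟩ := key V' e' he' f
    have hU : IsUnit C'.det := by
      refine isUnit_of_mul_basis (ht.map (X.presheaf.map (homOfLE (le_top : V' ≤ ⊤)).op).hom)
        (b := (show Γ(X, V') from a.hom.app V'
          (eta E r V' (exteriorPower.ιMulti _ r (he'.basis V' le_rfl : Fin r → Γ(E, V')))))) ?_
      refine (ConcreteCategory.congr_hom (a.hom.mapPresheaf.naturality (homOfLE (le_top : V' ≤ ⊤)).op) w).symm.trans ?_
      exact (congrArg (fun z => a.hom.app V' z) hw).trans (Scheme.Modules.Hom.app_smul a.hom _ _)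
    have hF : IsFrame E V' fun i => mres E le_top (s (f i)) :=
      FrameFib8.isFrame_of_isUnit_det le_rfl he' C' hU hC'
    have h' := Ref1.stalk_of_isFrame hF y hyV'
    have he2 : Ref1.stalkComb (fun i => mres E (le_top : V' ≤ ⊤) (s (f i))) y hyV' =
        Ref1.stalkComb (s ∘ f) y (show y ∈ (⊤ : X.Opens) from trivial) := by
      unfold Ref1.stalkComb
      exact congrArg _ (funext fun i => TopCat.Presheaf.germ_res_apply E.presheaf _ y hyV' _)
    rwa [he2] at h'
  exact OmegaPn27.nonempty_iso_of_frames (Ref1.isFrame_of_stalk fun y _ => hfr y) (DegDet.isFrame_freeSec X r)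

end GrothLib.GGTriv27
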